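import Groth.Agent.LocImm.K947.Immersion
import Mathlib.AlgebraicGeometry.Morphisms.Flat

/-!
# Cancelling a monomorphism on the right: localizing immersions, flat morphisms
-/

set_option autoImplicit false
universe u

open CategoryTheory AlgebraicGeometry Limits TopologicalSpace

namespace K948.Cancel

open LocImm

theorem isPullback_of_mono {C : Type*} [Category C] {P Q Y : C} (g : P ⟶ Q) (m : Q ⟶ Y) [Mono m] :
    IsPullback (𝟙 P) g (g ≫ m) m :=
  ⟨⟨by simp⟩, ⟨PullbackCone.IsLimit.mk _ (fun s => s.fst) (fun s => by simp)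
    (fun s => by
      rw [← cancel_mono m, Category.assoc]
      exact s.condition)
    (fun s t h _ => by simpa using h)⟩⟩

theorem isLocalizing_of_comp {X Y Z : Scheme.{u}} (f : X ⟶ Y) (g : Y ⟶ Z) [Mono g]
    (h : IsLocalizing (f ≫ g)) : IsLocalizing f :=
  MorphismProperty.of_isPullback (P := K947.Localizing.locProp) (isPullback_of_mono f g) h

theorem isLocImmersion_of_comp {X Y Z : Scheme.{u}} (f : X ⟶ Y) (g : Y ⟶ Z) [Mono g]
    (h : IsLocImmersion (f ≫ g)) : IsLocImmersion f :=
  ⟨isLocalizing_of_comp f g h.1, fun _ _ e => h.2 (congrArg g e)⟩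

theorem flat_of_comp {X Y Z : Scheme.{u}} (f : X ⟶ Y) (g : Y ⟶ Z) [Mono g]
    [Flat (f ≫ g)] : Flat f :=
  MorphismProperty.of_isPullback (P := @Flat) (isPullback_of_mono f g) inferInstance

theorem flat_fromSpecStalk (Y : Scheme.{u}) (y : Y) : Flat (Y.fromSpecStalk y) := by
  obtain ⟨_, ⟨U, hU, rfl⟩, hyU, -⟩ :=
    Y.isBasis_affineOpens.exists_subset_of_mem_open (Set.mem_univ y) isOpen_univ
  rw [← hU.fromSpecStalk_eq_fromSpecStalk hyU, IsAffineOpen.fromSpecStalk]
  have : Flat (Spec.map (Y.presheaf.germ U y hyU)) := by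
    rw [Flat.SpecMap_iff]
    let := Y.presheaf.algebra_section_stalk ⟨y, hyU⟩
    have h := hU.isLocalization_stalk ⟨y, hyU⟩
    exact IsLocalization.flat (Y.presheaf.stalk y) (hU.primeIdealOf ⟨y, hyU⟩).asIdeal.primeCompl
  infer_instance

/-- Flatness at a point, in terms of the local scheme. -/
theorem flat_fromSpecStalk_iff {X Y : Scheme.{u}} (f : X ⟶ Y) (x : X) :
    Flat (X.fromSpecStalk x ≫ f) ↔ (f.stalkMap x).hom.Flat := by
  have e : X.fromSpecStalk x ≫ f = Spec.map (f.stalkMap x) ≫ Y.fromSpecStalk (f x) :=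
    (Scheme.SpecMap_stalkMap_fromSpecStalk f).symm
  rw [e]
  constructor
  · intro h
    have h1 : Flat (Spec.map (f.stalkMap x)) := flat_of_comp _ (Y.fromSpecStalk (f x))
    exact Flat.SpecMap_iff.mp h1
  · intro h
    have h1 : Flat (Spec.map (f.stalkMap x)) := Flat.SpecMap_iff.mpr h
    have h2 := flat_fromSpecStalk Y (f x)
    infer_instance

end K948.Cancel
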