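import Groth.Agent.LocImm.K948.Dense
import Groth.Agent.LocImm.K948.Cancel

/-!
# Blow-ups whose centre misses the image of a given morphism
-/

set_option autoImplicit false
universe u

open CategoryTheory AlgebraicGeometry Limits TopologicalSpace

namespace K948.Adm

open LocImm Groth.Agent.Flat2C Groth.Agent.Flat2C.StrictTr Groth.Agent.Flat2C.StrictTr2

/-- `b` is a blow-up of `X` in an ideal sheaf whose support misses the image of `f : T ⟶ X`, and `f'` is the lift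
of `f` to the blow-up. -/
def IsAdm {T X X' : Scheme.{u}} (f : T ⟶ X) (b : X' ⟶ X) (f' : T ⟶ X') : Prop :=
  ∃ 𝓘 : X.IdealSheafData, BlowUp.IsBlowUp b 𝓘 ∧ Disjoint (𝓘.support : Set X) (Set.range (fun x => f x)) ∧
    f' ≫ b = f

variable {T X X' X'' : Scheme.{u}} {f : T ⟶ X} {b : X' ⟶ X} {f' : T ⟶ X'}

theorem IsAdm.fac (h : IsAdm f b f') : f' ≫ b = f := h.choose_spec.2.2

theorem IsAdm.isProper [IsLocallyNoetherian X] (h : IsAdm f b f') : IsProper b :=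
  FT.isProper_of_isBlowUp h.choose_spec.1

theorem IsAdm.isNoetherian [IsNoetherian X] (h : IsAdm f b f') : IsNoetherian X' :=
  FT.isNoetherian_of_isBlowUp h.choose_spec.1

theorem IsAdm.dense (h : IsAdm f b f') (hd : Dense (Set.range f)) : Dense (Set.range f') := by
  obtain ⟨𝓘, hb, hdis, hf⟩ := h
  refine Dn.dense_range_lift hb f' (by rwa [hf]) ?_
  intro t ht
  refine Set.disjoint_left.mp hdis ht ⟨t, ?_⟩
  change f t = b (f' t)
  rw [← Scheme.Hom.comp_apply, hf]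

theorem isBlowUp_id_top (X : Scheme.{u}) : BlowUp.IsBlowUp (𝟙 X) (⊤ : X.IdealSheafData) := by
  refine ⟨?_, fun Y g _ => ⟨g, by simp, fun h hh => by simpa using hh⟩⟩
  rw [Scheme.IdealSheafData.comap_id]
  intro x
  obtain ⟨_, ⟨U, hU, rfl⟩, hxU, -⟩ :=
    X.isBasis_affineOpens.exists_subset_of_mem_open (Set.mem_univ x) isOpen_univ
  refine ⟨⟨U, hU⟩, hxU, 1, one_mem _, ?_⟩
  rw [Ideal.span_singleton_one]
  rfl

theorem IsAdm.refl (f : T ⟶ X) : IsAdm f (𝟙 X) f := by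
  refine ⟨⊤, isBlowUp_id_top X, ?_, Category.comp_id f⟩
  rw [Scheme.IdealSheafData.support_top]
  simp

theorem IsAdm.comp [IsNoetherian X] (h : IsAdm f b f') {b' : X'' ⟶ X'} {f'' : T ⟶ X''} (h' : IsAdm f' b' f'') :
    IsAdm f (b' ≫ b) f'' := by
  have hN := h.isNoetherian
  obtain ⟨𝓘, hb, hdis, hf⟩ := h
  obtain ⟨𝓙, hb', hdis', hf'⟩ := h'
  obtain ⟨𝓚, -, hsupp, hbb⟩ := Groth.Agent.S1694.result X 𝓘 (FT.isFT_of_noetherian _) b hb 𝓙
    (FT.isFT_of_noetherian _) b' hb'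
  refine ⟨𝓚, hbb, ?_, by rw [← Category.assoc, hf', hf]⟩
  rw [hsupp, Set.disjoint_union_left]
  refine ⟨hdis, ?_⟩
  rw [Set.disjoint_left]
  rintro _ ⟨y, hy, rfl⟩ ⟨t, ht⟩
  have h1 : f t ∈ compl 𝓘 := fun h => Set.disjoint_left.mp hdis h ⟨t, rfl⟩
  have h2 : b (f' t) = b y := by
    rw [← Scheme.Hom.comp_apply, hf]
    exact ht
  have h3 : f' t = y := Dn.injOn_compl hb h2 (by rw [← Scheme.Hom.comp_apply, hf]; exact h1)
  exact Set.disjoint_left.mp hdis' hy ⟨t, h3⟩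

/-- Flat base change. -/
theorem IsAdm.baseChange (h : IsAdm f b f') {X₁ : Scheme.{u}} (k : X₁ ⟶ X) [Flat k] (f₁ : T ⟶ X₁) (hf₁ : f₁ ≫ k = f) :
    IsAdm f₁ (pullback.fst k b) (pullback.lift f₁ f' (by rw [hf₁, h.fac])) := by
  obtain ⟨𝓘, hb, hdis, hf⟩ := h
  refine ⟨𝓘.comap k, isBlowUp_fst_of_flat hb (IsPullback.of_hasPullback k b), ?_, pullback.lift_fst _ _ _⟩
  rw [Set.disjoint_left]
  rintro _ hx ⟨x, rfl⟩
  rw [Scheme.IdealSheafData.support_comap] at hx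
  refine Set.disjoint_left.mp hdis hx ⟨x, ?_⟩
  change f x = k (f₁ x)
  rw [← Scheme.Hom.comp_apply, hf₁]

theorem of_isAdmissibleFor {W : X.Opens} {𝓘 : X.IdealSheafData} (hb : BlowUp.IsBlowUp b 𝓘)
    (hadm : BlowUp.IsAdmissibleFor W 𝓘) (hW : ∀ t, f t ∈ W) (hf : f' ≫ b = f) : IsAdm f b f' := by
  refine ⟨𝓘, hb, ?_, hf⟩
  rw [Set.disjoint_left]
  rintro _ hx ⟨t, rfl⟩
  exact Set.disjoint_left.mp hadm.2 hx (hW t)

/-- The lift of a localizing immersion to an admissible blow-up is a localizing immersion. -/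
theorem IsAdm.isLocImmersion (h : IsAdm f b f') (hf : IsLocImmersion f) : IsLocImmersion f' := by
  obtain ⟨𝓘, hb, hdis, hfb⟩ := h
  -- the lift factors through the open `b⁻¹ (compl 𝓘)` on which `b` is an open immersion
  have hi : IsOpenImmersion ((b ⁻¹ᵁ compl 𝓘).ι ≫ b) := isOpenImmersion_ι_comp_of_le_compl hb le_rfl
  have hr : Set.range f' ⊆ Set.range (b ⁻¹ᵁ compl 𝓘).ι := by
    rintro _ ⟨t, rfl⟩
    rw [Scheme.Opens.range_ι]
    intro ht
    refine Set.disjoint_left.mp hdis ht ⟨t, ?_⟩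
    change f t = b (f' t)
    rw [← Scheme.Hom.comp_apply, hfb]
  let l := IsOpenImmersion.lift (b ⁻¹ᵁ compl 𝓘).ι f' hr
  have hl : l ≫ (b ⁻¹ᵁ compl 𝓘).ι = f' := IsOpenImmersion.lift_fac _ _ _
  have h1 : IsLocImmersion (l ≫ (b ⁻¹ᵁ compl 𝓘).ι ≫ b) := by
    rw [← Category.assoc, hl, hfb]
    exact hf
  have h2 : IsLocImmersion l := K948.Cancel.isLocImmersion_of_comp l _ h1
  rw [← hl]
  exact K947.Immersion.IsLocImmersion.comp h2 (K947.Immersion.isLocImmersion_of_isOpenImmersion _)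

end K948.Adm
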