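import Mathlib.Topology.NoetherianSpace
import Mathlib.Topology.Sober

/-! In a Noetherian sober space, a closed subset stable under generization is open. -/

set_option autoImplicit false

namespace K948

open TopologicalSpace

theorem isOpen_of_isClosed_of_stableUnderGeneralization {Y : Type*} [TopologicalSpace Y]
    [NoetherianSpace Y] [QuasiSober Y] {C : Set Y} (hC : IsClosed C)
    (hg : StableUnderGeneralization C) : IsOpen C := by
  rw [← isClosed_compl_iff]
  have key : Cᶜ = ⋃₀ {Z ∈ irreducibleComponents Y | Disjoint Z C} := by
    ext y
    constructor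
    · intro hy
      refine ⟨irreducibleComponent y, ⟨irreducibleComponent_mem_irreducibleComponents y, ?_⟩,
        mem_irreducibleComponent⟩
      rw [Set.disjoint_left]
      intro z hz hzC
      obtain ⟨η, hη⟩ := QuasiSober.sober (isIrreducible_irreducibleComponent (x := y))
        isClosed_irreducibleComponent
      have h1 : η ⤳ z := hη.specializes hz
      have h2 : η ⤳ y := hη.specializes mem_irreducibleComponent
      exact hy (h2.mem_closed hC (hg h1 hzC))
    · rintro ⟨Z, ⟨-, hd⟩, hyZ⟩ hyC
      exact Set.disjoint_left.mp hd hyZ hyC
  rw [key]
  rw [Set.sUnion_eq_biUnion]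
  exact Set.Finite.isClosed_biUnion
    ((NoetherianSpace.finite_irreducibleComponents (α := Y)).subset (Set.sep_subset _ _))
    (fun Z hZ => isClosed_of_mem_irreducibleComponents Z hZ.1)

end K948
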