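import Groth.Prelude.Def_EssFT
import Mathlib.AlgebraicGeometry.Noetherian

/-!
# Formal properties of morphisms (locally) essentially of finite type
-/

set_option autoImplicit false
universe u

open CategoryTheory AlgebraicGeometry Limits TopologicalSpace

namespace K948.EFT

open EssFT

theorem ringHom_locally_comp : RingHom.StableUnderComposition (RingHom.Locally RingHom.EssFiniteType.{u, u}) :=
  RingHom.locally_stableUnderComposition RingHom.EssFiniteType.respectsIso
    RingHom.EssFiniteType.isStableUnderBaseChange.localizationPreserves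
    RingHom.EssFiniteType.stableUnderComposition

instance : MorphismProperty.IsStableUnderComposition @LocallyEssFiniteType :=
  HasRingHomProperty.stableUnderComposition ringHom_locally_comp

instance : MorphismProperty.IsStableUnderBaseChange @LocallyEssFiniteType :=
  HasRingHomProperty.isStableUnderBaseChange
    (RingHom.locally_isStableUnderBaseChange RingHom.EssFiniteType.respectsIso
      RingHom.EssFiniteType.isStableUnderBaseChange)

instance {X Y Z : Scheme.{u}} (f : X ⟶ Y) (g : Y ⟶ Z) [hf : LocallyEssFiniteType f]
    [hg : LocallyEssFiniteType g] : LocallyEssFiniteType (f ≫ g) :=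
  MorphismProperty.comp_mem _ f g hf hg

instance {X Y Z : Scheme.{u}} (f : X ⟶ Y) (g : Y ⟶ Z) [EssFiniteType f]
    [EssFiniteType g] : EssFiniteType (f ≫ g) where

instance {X Y S : Scheme.{u}} (f : X ⟶ S) (g : Y ⟶ S) [hf : LocallyEssFiniteType f] :
    LocallyEssFiniteType (pullback.snd f g) :=
  MorphismProperty.pullback_snd (P := @LocallyEssFiniteType) _ _ hf

instance {X Y S : Scheme.{u}} (f : X ⟶ S) (g : Y ⟶ S) [hf : LocallyEssFiniteType g] :
    LocallyEssFiniteType (pullback.fst f g) :=
  MorphismProperty.pullback_fst (P := @LocallyEssFiniteType) _ _ hf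

instance {X Y S : Scheme.{u}} (f : X ⟶ S) (g : Y ⟶ S) [EssFiniteType f] :
    EssFiniteType (pullback.snd f g) where

instance {X Y S : Scheme.{u}} (f : X ⟶ S) (g : Y ⟶ S) [EssFiniteType g] :
    EssFiniteType (pullback.fst f g) where

theorem locallyEssFiniteType_of_locallyOfFiniteType {X Y : Scheme.{u}} (f : X ⟶ Y)
    [hf : LocallyOfFiniteType f] : LocallyEssFiniteType f := by
  rw [HasRingHomProperty.iff_appLE (P := @LocallyEssFiniteType)]
  intro U V e
  apply RingHom.locally_of RingHom.EssFiniteType.respectsIso
  have := HasRingHomProperty.appLE @LocallyOfFiniteType f hf U V e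
  algebraize [(f.appLE U V e).hom]
  have : Algebra.FiniteType Γ(Y, U) Γ(X, V) := this
  exact (inferInstance : Algebra.EssFiniteType Γ(Y, U) Γ(X, V))

theorem essFiniteType_of_locallyOfFiniteType {X Y : Scheme.{u}} (f : X ⟶ Y)
    [hf : LocallyOfFiniteType f] [QuasiCompact f] : EssFiniteType f :=
  { locallyEssFiniteType_of_locallyOfFiniteType f with }

/-- A scheme locally essentially of finite type over a locally Noetherian scheme is locally Noetherian. -/
theorem isLocallyNoetherian {X Y : Scheme.{u}} (f : X ⟶ Y) [LocallyEssFiniteType f]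
    [IsLocallyNoetherian Y] : IsLocallyNoetherian X := by
  choose U V hx e h using LocallyEssFiniteType.exists_appLE_essFiniteType (f := f)
  refine isLocallyNoetherian_of_affine_cover (S := V) ?_ ?_
  · exact top_le_iff.mp fun x _ => Opens.mem_iSup.mpr ⟨x, hx x⟩
  · intro x
    have := IsLocallyNoetherian.component_noetherian (U x)
    have h1 := h x
    algebraize [(f.appLE (U x) (V x) (e x)).hom]
    exact Algebra.EssFiniteType.isNoetherianRing Γ(Y, U x) Γ(X, V x)

theorem isNoetherian {X Y : Scheme.{u}} (f : X ⟶ Y) [EssFiniteType f] [IsNoetherian Y] :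
    IsNoetherian X :=
  have : IsLocallyNoetherian X := isLocallyNoetherian f
  have : CompactSpace X := QuasiCompact.compactSpace_of_compactSpace f
  {}

end K948.EFT
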