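import Groth.Agent.LocImm.K948.Adm

/-!
# After an admissible blow-up a localizing immersion has dense image
-/

set_option autoImplicit false
universe u

open CategoryTheory AlgebraicGeometry Limits TopologicalSpace

namespace K948.Adm

open LocImm Groth.Agent.Flat2C Groth.Agent.Flat2C.StrictTr Groth.Agent.Flat2C.StrictTr2

/-- The union of the irreducible components which do not meet a given subset. -/
def offComp {Y : Type*} [TopologicalSpace Y] (R : Set Y) : Set Y :=
  ⋃₀ {Z ∈ irreducibleComponents Y | Disjoint Z R}

theorem isClosed_offComp {Y : Type*} [TopologicalSpace Y] [NoetherianSpace Y] (R : Set Y) :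
    IsClosed (offComp R) := by
  rw [offComp, Set.sUnion_eq_biUnion]
  exact Set.Finite.isClosed_biUnion
    ((NoetherianSpace.finite_irreducibleComponents (α := Y)).subset (Set.sep_subset _ _))
    (fun Z hZ => isClosed_of_mem_irreducibleComponents Z hZ.1)

theorem disjoint_offComp {Y : Type*} [TopologicalSpace Y] (R : Set Y) : Disjoint (offComp R) R := by
  rw [Set.disjoint_left]
  rintro y ⟨Z, ⟨-, hd⟩, hyZ⟩ hy
  exact Set.disjoint_left.mp hd hyZ hy

theorem compl_offComp_subset {Y : Type*} [TopologicalSpace Y] [QuasiSober Y] {R : Set Y}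
    (hR : StableUnderGeneralization R) : (offComp R)ᶜ ⊆ closure R := by
  intro y hy
  have h1 : ¬ Disjoint (irreducibleComponent y) R := fun h =>
    hy ⟨_, ⟨irreducibleComponent_mem_irreducibleComponents y, h⟩, mem_irreducibleComponent⟩
  rw [Set.not_disjoint_iff] at h1
  obtain ⟨z, hz, hzR⟩ := h1
  obtain ⟨η, hη⟩ := QuasiSober.sober (isIrreducible_irreducibleComponent (x := y))
    isClosed_irreducibleComponent
  have h2 : η ∈ R := hR (hη.specializes hz) hzR
  have h3 : η ⤳ y := hη.specializes mem_irreducibleComponent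
  exact h3.mem_closed isClosed_closure (subset_closure h2)

/-- After an admissible blow-up, a localizing immersion has dense image. -/
theorem exists_isAdm_dense {T X : Scheme.{u}} [IsNoetherian X] (f : T ⟶ X) (hf : IsLocImmersion f) :
    ∃ (X' : Scheme.{u}) (b : X' ⟶ X) (f' : T ⟶ X'), IsAdm f b f' ∧ Dense (Set.range f') := by
  let C : Closeds X := ⟨offComp (Set.range f), isClosed_offComp _⟩
  let 𝓘 : X.IdealSheafData := Scheme.IdealSheafData.vanishingIdeal C
  have hsupp : (𝓘.support : Set X) = offComp (Set.range f) :=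
    Scheme.IdealSheafData.coe_support_vanishingIdeal C
  obtain ⟨X', b, hb⟩ := BlowExist.exists_isBlowUp 𝓘
  have hdis : Disjoint (𝓘.support : Set X) (Set.range (fun x => f x)) := by
    rw [hsupp]
    exact disjoint_offComp _
  obtain ⟨f', hf'⟩ := Dn.exists_lift hb f hdis
  refine ⟨X', b, f', ⟨𝓘, hb, hdis, hf'⟩, ?_⟩
  apply Dn.dense_range_lift' hb
  · rw [hf', coe_compl, hsupp]
    exact compl_offComp_subset (K947.Immersion.stableUnderGeneralization_range hf.1)
  · intro t ht
    refine Set.disjoint_left.mp hdis ht ⟨t, ?_⟩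
    change f t = b (f' t)
    rw [← Scheme.Hom.comp_apply, hf']

end K948.Adm
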