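import Groth.Agent.S18191
import Groth.Agent.S18193
import Groth.Agent.LocImm.K948.MakeDense
import Groth.Agent.LocImm.K948.EssFTBasic

/-!
# Admissible blow-ups of several schemes embed in a common one
-/

set_option autoImplicit false
universe u

open CategoryTheory AlgebraicGeometry Limits TopologicalSpace

namespace K948.Common

open LocImm Groth.Agent.Flat2C K948.Adm

theorem isSeparated {X Y : Scheme.{u}} {f : X ⟶ Y} (hf : IsLocImmersion f) : IsSeparated f := by
  have := K947.Immersion.mono hf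
  infer_instance

theorem isNoetherian_of_ft {X S : Scheme.{u}} [IsNoetherian S] (q : X ⟶ S) [LocallyOfFiniteType q] [QuasiCompact q] :
    IsNoetherian X :=
  have : IsLocallyNoetherian X := LocallyOfFiniteType.isLocallyNoetherian q
  have : CompactSpace X := QuasiCompact.compactSpace_of_compactSpace q
  {}

/-- Two schemes of finite type containing a common localizing subscheme. -/
theorem glue2 {S U Z W : Scheme.{u}} [IsNoetherian S] [IsNoetherian U] (r : Z ⟶ S) (q : W ⟶ S)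
    [IsSeparated r] [LocallyOfFiniteType r] [QuasiCompact r] [IsSeparated q] [LocallyOfFiniteType q] [QuasiCompact q]
    (v : U ⟶ Z) (f : U ⟶ W) (hv : IsLocImmersion v) (hf : IsLocImmersion f) (h : v ≫ r = f ≫ q) :
    ∃ (X : Scheme.{u}) (p : X ⟶ S) (_ : IsSeparated p) (_ : LocallyOfFiniteType p) (_ : QuasiCompact p)
      (Zt Wt : Scheme.{u}) (b₁ : Zt ⟶ Z) (b₂ : Wt ⟶ W) (v' : U ⟶ Zt) (f' : U ⟶ Wt) (o₁ : Zt ⟶ X) (o₂ : Wt ⟶ X)
      (_ : IsOpenImmersion o₁) (_ : IsOpenImmersion o₂),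
      IsAdm v b₁ v' ∧ IsAdm f b₂ f' ∧ o₁ ≫ p = b₁ ≫ r ∧
      o₂ ≫ p = b₂ ≫ q ∧ v' ≫ o₁ = f' ≫ o₂ ∧ o₁.opensRange ⊔ o₂.opensRange = ⊤ := by
  have hNZ : IsNoetherian Z := isNoetherian_of_ft r
  have hNW : IsNoetherian W := isNoetherian_of_ft q
  have := isSeparated hv
  have := isSeparated hf
  obtain ⟨V, k, g₁, g₂, hk, hg₁, hg₂, hg, hkg₁, hkg₂⟩ := Groth.Agent.S18193.result v f r q hv hf h
  let k₁ := g₁.isoOpensRange.hom
  let k₂ := g₂.isoOpensRange.hom
  have hk₁ : k₁ ≫ g₁.opensRange.ι = g₁ := Scheme.Hom.isoOpensRange_hom_ι g₁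
  have hk₂ : k₂ ≫ g₂.opensRange.ι = g₂ := Scheme.Hom.isoOpensRange_hom_ι g₂
  have hcomm : (k₁ ≫ g₁.opensRange.ι) ≫ r = (k₂ ≫ g₂.opensRange.ι) ≫ q := by rw [hk₁, hk₂, hg]
  obtain ⟨X, p, hp1, hp2, hp3, 𝓘₁, 𝓘₂, Zt, Wt, b₁, b₂, o₁, o₂, ho₁, ho₂, u₁, u₂, hb₁, ha₁, hb₂, ha₂, e₁, e₂, e₃, e₄,
    e₅, e₆, -⟩ := GlueBlow.exists_glue r q g₁.opensRange g₂.opensRange (FT.isCompact_opens _) (FT.isCompact_opens _)
    k₁ k₂ hcomm
    (by
      have h1 : IsClosedImmersion (pullback.lift (f := g₁.opensRange.ι ≫ r) (g := q) k₁ (k₂ ≫ g₂.opensRange.ι)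
          (by rw [← hcomm, Category.assoc]) ≫ pullback.fst _ _) := by
        rw [pullback.lift_fst]
        infer_instance
      exact IsClosedImmersion.of_comp _ (pullback.fst (g₁.opensRange.ι ≫ r) q))
    (by
      have h1 : IsClosedImmersion (pullback.lift (f := r) (g := g₂.opensRange.ι ≫ q) (k₁ ≫ g₁.opensRange.ι) k₂
          (by rw [hcomm, Category.assoc]) ≫ pullback.snd _ _) := by
        rw [pullback.lift_snd]
        infer_instance
      exact IsClosedImmersion.of_comp _ (pullback.snd r (g₂.opensRange.ι ≫ q)))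
  refine ⟨X, p, hp1, hp2, hp3, Zt, Wt, b₁, b₂, (k ≫ k₁) ≫ u₁, (k ≫ k₂) ≫ u₂, o₁, o₂, ho₁, ho₂, ?_, ?_, e₁, e₂, ?_, e₆⟩
  · refine of_isAdmissibleFor hb₁ ha₁ ?_ ?_
    · intro t
      rw [← hkg₁]
      exact ⟨k t, (Scheme.Hom.comp_apply k g₁ t).symm⟩
    · rw [Category.assoc, e₃, Category.assoc, hk₁, hkg₁]
  · refine of_isAdmissibleFor hb₂ ha₂ ?_ ?_
    · intro t
      rw [← hkg₂]
      exact ⟨k t, (Scheme.Hom.comp_apply k g₂ t).symm⟩
    · rw [Category.assoc, e₄, Category.assoc, hk₂, hkg₂]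
  · simp only [Category.assoc]
    rw [e₅]

/-- The finite type case, for finitely many schemes in which `U` is dense. -/
theorem exists_common {S U : Scheme.{u}} [IsNoetherian S] [IsNoetherian U] (gU : U ⟶ S) (n : ℕ) :
    ∀ (W : Fin (n + 1) → Scheme.{u}) (q : ∀ i, W i ⟶ S) (_ : ∀ i, IsSeparated (q i))
      (_ : ∀ i, LocallyOfFiniteType (q i)) (_ : ∀ i, QuasiCompact (q i)) (f : ∀ i, U ⟶ W i)
      (_ : ∀ i, IsLocImmersion (f i)) (_ : ∀ i, Dense (Set.range (f i))) (_ : ∀ i, f i ≫ q i = gU),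
    ∃ (Z : Scheme.{u}) (r : Z ⟶ S) (_ : IsSeparated r) (_ : LocallyOfFiniteType r) (_ : QuasiCompact r)
      (v : U ⟶ Z), IsLocImmersion v ∧ Dense (Set.range v) ∧ v ≫ r = gU ∧
      ∀ i, ∃ (Wt : Scheme.{u}) (b : Wt ⟶ W i) (w : U ⟶ Wt) (o : Wt ⟶ Z), IsAdm (f i) b w ∧ IsOpenImmersion o ∧
        w ≫ o = v ∧ o ≫ r = b ≫ q i := by
  induction n with
  | zero =>
    intro W q h1 h2 h3 f hf hd hfq
    refine ⟨W 0, q 0, h1 0, h2 0, h3 0, f 0, hf 0, hd 0, hfq 0, fun i => ?_⟩
    obtain rfl : i = 0 := Fin.ext (by have := i.2; simpa using this)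
    exact ⟨W 0, 𝟙 _, f 0, 𝟙 _, IsAdm.refl _, inferInstance, Category.comp_id _, rfl⟩
  | succ n ih =>
    intro W q h1 h2 h3 f hf hd hfq
    obtain ⟨Z, r, hr1, hr2, hr3, v, hv, hvd, hvr, H⟩ := ih (fun i => W i.castSucc) (fun i => q i.castSucc)
      (fun i => h1 _) (fun i => h2 _) (fun i => h3 _) (fun i => f i.castSucc) (fun i => hf _) (fun i => hd _)
      (fun i => hfq _)
    have := h1 (Fin.last (n + 1))
    have := h2 (Fin.last (n + 1))
    have := h3 (Fin.last (n + 1))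
    obtain ⟨X, p, hp1, hp2, hp3, Zt, Wt, b₁, b₂, v', f', o₁, o₂, ho₁, ho₂, ha₁, ha₂, e₁, e₂, e₃, e₄⟩ :=
      glue2 r (q (Fin.last (n + 1))) v (f (Fin.last (n + 1))) hv (hf _) (by rw [hvr, hfq])
    have hNW : ∀ i, IsNoetherian (W i) := fun i =>
      have := h2 i
      have := h3 i
      isNoetherian_of_ft (q i)
    refine ⟨X, p, hp1, hp2, hp3, v' ≫ o₁, ?_, ?_, ?_, ?_⟩
    · exact K947.Immersion.IsLocImmersion.comp (ha₁.isLocImmersion hv)
        (K947.Immersion.isLocImmersion_of_isOpenImmersion o₁)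
    · have hd₁ : Set.range o₁ ⊆ closure (Set.range (v' ≫ o₁)) := by
        rintro _ ⟨x, rfl⟩
        have := image_closure_subset_closure_image o₁.continuous (s := Set.range v')
          ⟨x, by rw [(ha₁.dense hvd).closure_eq]; trivial, rfl⟩
        rw [← Set.range_comp] at this
        convert this using 3
        ext y
        exact Scheme.Hom.comp_apply v' o₁ y
      have hd₂ : Set.range o₂ ⊆ closure (Set.range (v' ≫ o₁)) := by
        rw [e₃]
        rintro _ ⟨x, rfl⟩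
        have := image_closure_subset_closure_image o₂.continuous (s := Set.range f')
          ⟨x, by rw [(ha₂.dense (hd _)).closure_eq]; trivial, rfl⟩
        rw [← Set.range_comp] at this
        convert this using 3
        ext y
        exact Scheme.Hom.comp_apply f' o₂ y
      rw [dense_iff_closure_eq, Set.eq_univ_iff_forall]
      intro x
      have hx : x ∈ o₁.opensRange ⊔ o₂.opensRange := by rw [e₄]; trivial
      rcases hx with hx | hx
      · exact hd₁ hx
      · exact hd₂ hx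
    · rw [Category.assoc, e₁, ← Category.assoc, ha₁.fac, hvr]
    · intro i
      induction i using Fin.lastCases with
      | last => exact ⟨Wt, b₂, f', o₂, ha₂, ho₂, e₃.symm, e₂⟩
      | cast i =>
        obtain ⟨Wt', b, w, o, hadm, ho, hwo, hor⟩ := H i
        have hadm' := ha₁.baseChange o w hwo
        refine ⟨pullback o b₁, pullback.fst o b₁ ≫ b, _, pullback.snd o b₁ ≫ o₁, hadm.comp hadm', inferInstance, ?_, ?_⟩
        · rw [← Category.assoc, pullback.lift_snd]
        · rw [Category.assoc, e₁, ← Category.assoc, ← pullback.condition, Category.assoc, hor, Category.assoc]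

end K948.Common
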