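import Groth.Agent.LocImm.K948.FT209
import Groth.Agent.LocImm.K947.Cancel

/-!
# Density and blow-ups; the scheme-theoretic image of a localizing immersion
-/

set_option autoImplicit false
universe u

open CategoryTheory AlgebraicGeometry Limits TopologicalSpace

namespace K948.Dn

open LocImm Groth.Agent.Flat2C Groth.Agent.Flat2C.StrictTr Groth.Agent.Flat2C.StrictTr2

/-- A lift to a blow-up of a morphism whose image misses the centre and is dense off the centre has dense image. -/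
theorem dense_range_lift' {T Z Zt : Scheme.{u}} {𝓙 : Z.IdealSheafData} {c : Zt ⟶ Z}
    (hc : BlowUp.IsBlowUp c 𝓙) (h : T ⟶ Zt) (hd : (compl 𝓙 : Set Z) ⊆ closure (Set.range (h ≫ c)))
    (hdis : ∀ t : T, c (h t) ∈ compl 𝓙) : Dense (Set.range h) := by
  have hO : Dense ((c ⁻¹ᵁ compl 𝓙 : Zt.Opens) : Set Zt) := by
    have := closure_compl_of_isEff hc.1
    rw [compl_comap] at this
    exact dense_iff_closure_eq.mpr this
  have hi : IsOpenImmersion ((c ⁻¹ᵁ compl 𝓙).ι ≫ c) := isOpenImmersion_ι_comp_of_le_compl hc le_rfl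
  rw [dense_iff_inter_open]
  intro V hV hne
  obtain ⟨v, hvV, hvO⟩ := hO.inter_open_nonempty V hV hne
  let V' : Set (c ⁻¹ᵁ compl 𝓙 : Zt.Opens) := (c ⁻¹ᵁ compl 𝓙).ι ⁻¹' V
  have hV' : IsOpen V' := hV.preimage (c ⁻¹ᵁ compl 𝓙).ι.continuous
  have h1 : IsOpen (((c ⁻¹ᵁ compl 𝓙).ι ≫ c) '' V') := hi.base_open.isOpenMap _ hV'
  obtain ⟨_, ⟨w, hw, hwz⟩, ⟨t, rfl⟩⟩ := mem_closure_iff.mp (hd (show c v ∈ compl 𝓙 from hvO)) _ h1
    ⟨(⟨v, hvO⟩ : (c ⁻¹ᵁ compl 𝓙 : Zt.Opens)), hvV, rfl⟩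
  let t' : ((c ⁻¹ᵁ compl 𝓙 : Zt.Opens) : Scheme.{u}) := ⟨h t, hdis t⟩
  have h2 : w = t' := ((c ⁻¹ᵁ compl 𝓙).ι ≫ c).isOpenEmbedding.injective hwz
  refine ⟨h t, ?_, t, rfl⟩
  rw [h2] at hw
  exact hw

/-- A lift to a blow-up of a morphism with dense image missing the centre has dense image. -/
theorem dense_range_lift {T Z Zt : Scheme.{u}} {𝓙 : Z.IdealSheafData} {c : Zt ⟶ Z}
    (hc : BlowUp.IsBlowUp c 𝓙) (h : T ⟶ Zt) (hd : Dense (Set.range (h ≫ c)))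
    (hdis : ∀ t : T, c (h t) ∈ compl 𝓙) : Dense (Set.range h) :=
  dense_range_lift' hc h (by rw [hd.closure_eq]; exact Set.subset_univ _) hdis

/-- A blow-up is injective off the centre. -/
theorem injOn_compl {Z Zt : Scheme.{u}} {𝓙 : Z.IdealSheafData} {c : Zt ⟶ Z}
    (hc : BlowUp.IsBlowUp c 𝓙) {y y' : Zt} (h : c y = c y') (hy : c y ∈ compl 𝓙) : y = y' := by
  have hi : IsOpenImmersion ((c ⁻¹ᵁ compl 𝓙).ι ≫ c) := isOpenImmersion_ι_comp_of_le_compl hc le_rfl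
  have hy' : c y' ∈ compl 𝓙 := h ▸ hy
  let z : ((c ⁻¹ᵁ compl 𝓙 : Zt.Opens) : Scheme.{u}) := ⟨y, hy⟩
  let z' : ((c ⁻¹ᵁ compl 𝓙 : Zt.Opens) : Scheme.{u}) := ⟨y', hy'⟩
  have h2 : z = z' := ((c ⁻¹ᵁ compl 𝓙).ι ≫ c).isOpenEmbedding.injective h
  exact congrArg Subtype.val h2

/-- The lift of a morphism missing the centre. -/
theorem exists_lift {T Z Zt : Scheme.{u}} {𝓙 : Z.IdealSheafData} {c : Zt ⟶ Z}
    (hc : BlowUp.IsBlowUp c 𝓙) (h : T ⟶ Z) (hdis : Disjoint (𝓙.support : Set Z) (Set.range (fun x => h x))) :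
    ∃ h' : T ⟶ Zt, h' ≫ c = h :=
  (existsUnique_lift_of_mem_compl hc h fun t ht => Set.disjoint_left.mp hdis ht ⟨t, rfl⟩).exists

theorem lift_unique {T Z Zt : Scheme.{u}} {𝓙 : Z.IdealSheafData} {c : Zt ⟶ Z}
    (hc : BlowUp.IsBlowUp c 𝓙) (h : T ⟶ Z) (hdis : Disjoint (𝓙.support : Set Z) (Set.range (fun x => h x)))
    {h₁ h₂ : T ⟶ Zt} (e₁ : h₁ ≫ c = h) (e₂ : h₂ ≫ c = h) : h₁ = h₂ :=
  (existsUnique_lift_of_mem_compl hc h fun t ht => Set.disjoint_left.mp hdis ht ⟨t, rfl⟩).unique e₁ e₂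

theorem toImage_app_injective {X Y : Scheme.{u}} (f : X ⟶ Y) [QuasiCompact f] (U : f.image.Opens) :
    Function.Injective (f.toImage.app U).hom := by
  have := GlueBlow.isSchemeTheoreticallyDominant_toImage f
  exact f.toImage.app_injective U

/-- If `t ≫ q` is a localizing immersion with `q` separated then so is the morphism to the scheme-theoretic image
of `t`. -/
theorem isLocImmersion_toImage {X Y Z : Scheme.{u}} [IsNoetherian X] (f : X ⟶ Y)
    (g : Y ⟶ Z) [IsSeparated g] (h : IsLocImmersion (f ≫ g)) : IsLocImmersion f.toImage := by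
  have e : f.toImage ≫ f.imageι ≫ g = f ≫ g := by rw [← Category.assoc, Scheme.Hom.toImage_imageι]
  exact K947.Cancel.isLocImmersion_of_comp_of_app_injective f.toImage (f.imageι ≫ g) (by rwa [e])
    (toImage_app_injective f)

end K948.Dn
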