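import Groth.Agent.Flat2C.GlueBlow

/-!
# Lifting a birational morphism of finite type to an open immersion of admissible blow-ups
-/

set_option autoImplicit false
universe u

open CategoryTheory AlgebraicGeometry Limits TopologicalSpace

namespace K948.FT

open Groth.Agent.Flat2C.StrictTr Groth.Agent.Flat2C.StrictTr2 Groth.Agent.Flat2C

/-- Ideal sheaves on locally Noetherian schemes are of finite type. -/
theorem isFT_of_noetherian {X : Scheme.{u}} [IsLocallyNoetherian X] (I : X.IdealSheafData) :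
    BlowUp.IsFiniteTypeIdeal I := fun U => by
  have := IsLocallyNoetherian.component_noetherian U
  exact IsNoetherian.noetherian _

theorem isNoetherian_of_isBlowUp {X X' : Scheme.{u}} [IsNoetherian X] {I : X.IdealSheafData} {b : X' ⟶ X}
    (hb : BlowUp.IsBlowUp b I) : IsNoetherian X' := by
  have : IsProper b := BlowProper.isProper_of_isBlowUp hb (isFT_of_noetherian I)
  have h1 : IsLocallyNoetherian X' := LocallyOfFiniteType.isLocallyNoetherian b
  have h2 : CompactSpace X' := QuasiCompact.compactSpace_of_compactSpace b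
  exact {}

theorem isProper_of_isBlowUp {X X' : Scheme.{u}} [IsLocallyNoetherian X] {I : X.IdealSheafData} {b : X' ⟶ X}
    (hb : BlowUp.IsBlowUp b I) : IsProper b := BlowProper.isProper_of_isBlowUp hb (isFT_of_noetherian I)

theorem isCompact_opens {X : Scheme.{u}} [IsNoetherian X] (U : X.Opens) : IsCompact (U : Set X) :=
  NoetherianSpace.isCompact _

/-- If `φ : Y ⟶ Z` is separated, `W` is a dense open of `Y` on which `φ` is an open immersion with image `U`, then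
`φ⁻¹ U = W`. -/
theorem preimage_opensRange_le {Y Z : Scheme.{u}} (φ : Y ⟶ Z) [IsSeparated φ] (W : Y.Opens)
    (hd : Dense (W : Set Y)) [IsOpenImmersion (W.ι ≫ φ)] : φ ⁻¹ᵁ (W.ι ≫ φ).opensRange = W := by
  set U := (W.ι ≫ φ).opensRange with hU
  have hle : W ≤ φ ⁻¹ᵁ U := by
    intro y hy
    exact ⟨⟨y, hy⟩, rfl⟩
  refine le_antisymm ?_ hle
  let i : (W : Scheme.{u}) ⟶ (φ ⁻¹ᵁ U : Y.Opens) := Y.homOfLE hle
  have h1 : i ≫ (φ ∣_ U) = (W.ι ≫ φ).isoOpensRange.hom := by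
    rw [← cancel_mono U.ι, Category.assoc, morphismRestrict_ι, ← Category.assoc, Scheme.homOfLE_ι,
      Scheme.Hom.isoOpensRange_hom_ι]
  have h2 : IsClosedImmersion (i ≫ (φ ∣_ U)) := by rw [h1]; infer_instance
  have h3 : IsClosedImmersion i := IsClosedImmersion.of_comp i (φ ∣_ U)
  have h4 : IsClosed (Set.range i) := i.isClosedEmbedding.isClosed_range
  have h5 : Dense (Set.range i) := by
    have h6 := hd.preimage (f := (φ ⁻¹ᵁ U).ι) (φ ⁻¹ᵁ U).ι.isOpenEmbedding.isOpenMap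
    refine h6.mono ?_
    intro x hx
    let x' : (W : Scheme.{u}) := ⟨(φ ⁻¹ᵁ U).ι x, hx⟩
    refine ⟨x', ?_⟩
    apply (φ ⁻¹ᵁ U).ι.isOpenEmbedding.injective
    change (φ ⁻¹ᵁ U).ι (i x') = _
    rw [← Scheme.Hom.comp_apply, Scheme.homOfLE_ι]
    rfl
  intro y hy
  have h7 : (⟨y, hy⟩ : (φ ⁻¹ᵁ U : Y.Opens)) ∈ Set.range i := by
    rw [← h4.closure_eq, h5.closure_eq]
    trivial
  obtain ⟨w, hw⟩ := h7
  have h8 : (φ ⁻¹ᵁ U).ι (i w) = y := by rw [hw]; rfl
  rw [← Scheme.Hom.comp_apply, Scheme.homOfLE_ι] at h8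
  rw [← h8]
  exact w.2

/-- **The finite type case.**  Let `g : Y ⟶ Z` be a separated morphism of finite type of Noetherian schemes and
`W ⊆ Y` an open on which `g` is an open immersion.  Then there are a `W`-admissible blow-up of `Y`, a
`g(W)`-admissible blow-up of `Z` and an open immersion of the former into the latter lifting `g`. -/
theorem exists_blowUps_openImmersion {Y Z : Scheme.{u}} [IsNoetherian Y] [IsNoetherian Z] (g : Y ⟶ Z)
    [IsSeparated g] [LocallyOfFiniteType g] (W : Y.Opens) [IsOpenImmersion (W.ι ≫ g)] :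
    ∃ (𝓘 : Y.IdealSheafData) (𝓙 : Z.IdealSheafData) (Yt Zt : Scheme.{u}) (b : Yt ⟶ Y) (c : Zt ⟶ Z)
      (g' : Yt ⟶ Zt), BlowUp.IsBlowUp b 𝓘 ∧ BlowUp.IsAdmissibleFor W 𝓘 ∧ BlowUp.IsBlowUp c 𝓙 ∧
      BlowUp.IsAdmissibleFor (W.ι ≫ g).opensRange 𝓙 ∧ IsOpenImmersion g' ∧ g' ≫ c = b ≫ g := by
  obtain ⟨𝓐, hft, hsupp⟩ := Admissible.exists_support_eq W (isCompact_opens W)
  obtain ⟨Y₁, b₁, hb₁⟩ := BlowExist.exists_isBlowUp 𝓐
  have hW : compl 𝓐 = W := by
    ext x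
    change x ∈ (𝓐.support : Set Y)ᶜ ↔ x ∈ (W : Set Y)
    rw [hsupp, compl_compl]
  have hprop : IsProper b₁ := isProper_of_isBlowUp hb₁
  have hN : IsNoetherian Y₁ := isNoetherian_of_isBlowUp hb₁
  have hd : Dense ((b₁ ⁻¹ᵁ W : Y₁.Opens) : Set Y₁) := by
    have := closure_compl_of_isEff hb₁.1
    rw [compl_comap, hW] at this
    exact dense_iff_closure_eq.mpr this
  have hiso : IsIso (b₁ ∣_ W) := isIso_restrict_of_le_compl hb₁ hW.ge
  have e : (b₁ ⁻¹ᵁ W).ι ≫ b₁ ≫ g = (b₁ ∣_ W) ≫ W.ι ≫ g := by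
    rw [← Category.assoc, ← morphismRestrict_ι, Category.assoc]
  have ho : IsOpenImmersion ((b₁ ⁻¹ᵁ W).ι ≫ b₁ ≫ g) := by rw [e]; infer_instance
  have hrange : ((b₁ ⁻¹ᵁ W).ι ≫ b₁ ≫ g).opensRange = (W.ι ≫ g).opensRange := by
    ext x
    change x ∈ Set.range ((b₁ ⁻¹ᵁ W).ι ≫ b₁ ≫ g) ↔ x ∈ Set.range (W.ι ≫ g)
    rw [e, Scheme.Hom.comp_base, TopCat.coe_comp, Set.range_comp,
      (show Function.Surjective (b₁ ∣_ W) from (inferInstance : Surjective (b₁ ∣_ W)).surj).range_eq,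
      Set.image_univ]
  set φ : Y₁ ⟶ Z := b₁ ≫ g with hφ
  set U : Z.Opens := (W.ι ≫ g).opensRange with hUdef
  have hpre : φ ⁻¹ᵁ U = b₁ ⁻¹ᵁ W := by
    rw [← hrange]
    exact preimage_opensRange_le φ (b₁ ⁻¹ᵁ W) hd
  have hU : IsOpenImmersion (φ ∣_ U) := by
    refine GlueBlow.isOpenImmersion_restrict φ U (b₁ ⁻¹ᵁ W).ι ?_
    rw [Scheme.Opens.range_ι, ← hpre]
    rfl
  obtain ⟨𝓘', hadm, H⟩ := GlueBlow.exists_dominating φ U (isCompact_opens U)
  obtain ⟨𝓚, Zt, c, W', β, ω, hc, hcadm, hβ, hω, hcomm⟩ := H ⊤ (Admissible.admissible_top _)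
  obtain ⟨𝓚', hft', hsupp', hb'⟩ := Groth.Agent.S1694.result Y 𝓐 hft b₁ hb₁ (𝓘'.comap φ * ⊤)
    (isFT_of_noetherian _) β hβ
  refine ⟨𝓚', 𝓚, W', Zt, β ≫ b₁, c, ω, hb', ⟨hft', ?_⟩, hc, hcadm, hω, ?_⟩
  · rw [hsupp', Set.disjoint_union_left]
    constructor
    · rw [hsupp]
      exact Set.disjoint_left.mpr fun x hx hx' => hx hx'
    · rw [Set.disjoint_left]
      rintro _ ⟨x, hx, rfl⟩ hxW
      have h1 : BlowUp.IsAdmissibleFor (φ ⁻¹ᵁ U) (𝓘'.comap φ * ⊤) :=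
        Admissible.admissible_mul (Admissible.admissible_comap hadm φ) (Admissible.admissible_top _)
      refine Set.disjoint_left.mp h1.2 hx ?_
      rw [hpre]
      exact hxW
  · rw [hcomm, hφ, Category.assoc]

end K948.FT
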