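import Groth.Agent.S18191
import Groth.Agent.S0386
import Groth.Agent.LocImm.K948.Cancel
import Mathlib.AlgebraicGeometry.Noetherian

/-!
# The flat locus of a morphism essentially of finite type
-/

set_option autoImplicit false
universe u

open CategoryTheory AlgebraicGeometry Limits TopologicalSpace

namespace K948.Fl

open LocImm

theorem stalkMap_flat_iff {X Z Y : Scheme.{u}} (i : X ⟶ Z) (h : Z ⟶ Y) (hi : IsLocalizing i) (x : X) :
    ((i ≫ h).stalkMap x).hom.Flat ↔ (h.stalkMap (i x)).hom.Flat := by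
  have h1 := K947.Localizing.IsLocalizing.isIso_stalkMap hi x
  have e : ((i ≫ h).stalkMap x).hom = (i.stalkMap x).hom.comp (h.stalkMap (i x)).hom :=
    congrArg CommRingCat.Hom.hom (Scheme.Hom.stalkMap_comp i h x)
  change RingHom.Flat ((i ≫ h).stalkMap x).hom ↔ _
  rw [e]
  have hb := ConcreteCategory.bijective_of_isIso (i.stalkMap x)
  constructor
  · intro h2
    have h3 : ((inv (i.stalkMap x)).hom.comp ((i.stalkMap x).hom.comp (h.stalkMap (i x)).hom)).Flat :=
      RingHom.Flat.comp h2 (RingHom.Flat.of_bijective (ConcreteCategory.bijective_of_isIso (inv (i.stalkMap x))))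
    convert h3
    rw [← RingHom.comp_assoc, ← CommRingCat.hom_comp, IsIso.hom_inv_id]
    rfl
  · intro h2
    exact RingHom.Flat.comp h2 (RingHom.Flat.of_bijective hb)

theorem main {X Y : Scheme.{u}} [IsNoetherian X] [IsNoetherian Y] (f : X ⟶ Y) [IsSeparated f] [EssFT.EssFiniteType f] :
    IsOpen {x : X | Flat (X.fromSpecStalk x ≫ f)} ∧
      (Flat f → ∃ (Z : Scheme.{u}) (i : X ⟶ Z) (h : Z ⟶ Y), IsNoetherian Z ∧ LocImm.IsLocImmersion i ∧
        IsSeparated h ∧ LocallyOfFiniteType h ∧ QuasiCompact h ∧ Flat h ∧ i ≫ h = f) := by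
  obtain ⟨Z, i, h, hZ, hi, hs, hft, hqc, hih⟩ := Groth.Agent.S18191.result f
  have hfp : LocallyOfFinitePresentation h := LocallyOfFinitePresentation.iff_locallyOfFiniteType.mpr hft
  have hopen := Groth.Agent.S0386.result h
  let U : Z.Opens := ⟨{z : Z | (h.stalkMap z).hom.Flat}, hopen⟩
  have key : ∀ x : X, Flat (X.fromSpecStalk x ≫ f) ↔ i x ∈ U := by
    intro x
    rw [K948.Cancel.flat_fromSpecStalk_iff, ← hih, stalkMap_flat_iff i h hi.1]
    rfl
  constructor
  · have : {x : X | Flat (X.fromSpecStalk x ≫ f)} = i ⁻¹' (U : Set Z) := by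
      ext x
      exact key x
    rw [this]
    exact U.isOpen.preimage i.continuous
  · intro hf
    have hr : Set.range i ⊆ Set.range U.ι := by
      rintro _ ⟨x, rfl⟩
      rw [Scheme.Opens.range_ι]
      have := K948.Cancel.flat_fromSpecStalk X x
      exact (key x).mp inferInstance
    let i' := IsOpenImmersion.lift U.ι i hr
    have hi' : i' ≫ U.ι = i := IsOpenImmersion.lift_fac _ _ _
    refine ⟨U, i', U.ι ≫ h, ?_, ?_, inferInstance, inferInstance, ?_, ?_, ?_⟩
    · have : CompactSpace U := isCompact_iff_compactSpace.mp (NoetherianSpace.isCompact (U : Set Z))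
      exact {}
    · exact K948.Cancel.isLocImmersion_of_comp i' U.ι (by rwa [hi'])
    · infer_instance
    · rw [Flat.iff_flat_stalkMap]
      intro x
      rw [stalkMap_flat_iff U.ι h (K947.Localizing.isLocalizing_of_isOpenImmersion _)]
      exact x.2
    · rw [← Category.assoc, hi', hih]

end K948.Fl
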