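import Groth.Agent.LocImm.K948.Iso214
import Mathlib.AlgebraicGeometry.ZariskisMainTheorem

/-!
# Extension of a rational map to a larger domain after an admissible blow-up, with closed graph
-/

set_option autoImplicit false
universe u

open CategoryTheory AlgebraicGeometry Limits TopologicalSpace

namespace K948.Graph

open LocImm Groth.Agent.Flat2C Groth.Agent.Flat2C.StrictTr Groth.Agent.Flat2C.StrictTr2

theorem exists_graph {S X Y Z : Scheme.{u}} [IsNoetherian X] [IsNoetherian Z]
    (a : X ⟶ S) (b : Y ⟶ S) [IsSeparated b] [EssFT.EssFiniteType b]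
    (j : Z ⟶ X) (hj : IsLocImmersion j) (f : Z ⟶ Y) (hjf : j ≫ a = f ≫ b) :
    ∃ (𝓘 : X.IdealSheafData) (Xt Z' : Scheme.{u}) (c : Xt ⟶ X) (j' : Z' ⟶ Xt) (e : Z ⟶ Z') (f' : Z' ⟶ Y)
      (h : j' ≫ (c ≫ a) = f' ≫ b),
      BlowUp.IsBlowUp c 𝓘 ∧ Disjoint (𝓘.support : Set X) (Set.range (fun x => j x)) ∧
      IsLocImmersion j' ∧ e ≫ j' ≫ c = j ∧ e ≫ f' = f ∧
      IsClosedImmersion (pullback.lift j' f' h) := by
  let γ : Z ⟶ pullback a b := pullback.lift j f hjf
  have hN : IsNoetherian (pullback a b) := K948.EFT.isNoetherian (pullback.fst a b)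
  have hγ : QuasiCompact γ := inferInstance
  have hγ1 : γ ≫ pullback.fst a b = j := pullback.lift_fst _ _ _
  have hγ2 : γ ≫ pullback.snd a b = f := pullback.lift_snd _ _ _
  let t := γ.toImage
  let q := γ.imageι ≫ pullback.fst a b
  have htq : t ≫ q = j := by
    simp only [t, q, ← Category.assoc, Scheme.Hom.toImage_imageι]
    exact hγ1
  have hq : IsSeparated q := by dsimp only [q]; infer_instance
  have hi : EssFT.EssFiniteType γ.imageι := K948.EFT.essFiniteType_of_locallyOfFiniteType _
  have hq' : EssFT.EssFiniteType q := by dsimp only [q]; infer_instance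
  have hNP'' : IsNoetherian γ.image := K948.EFT.isNoetherian q
  have ht : IsLocImmersion t := Dn.isLocImmersion_toImage γ (pullback.fst a b) (by rwa [hγ1])
  obtain ⟨𝓘, 𝓙, Pt, Xt, d, c, g', hd, hdd, hc, hcd, hg', hcomm⟩ :=
    K948.Lift.exists_lift t q ht (by rwa [htq])
  obtain ⟨e', he'⟩ := Dn.exists_lift hd t hdd
  have e1 : ∀ x, q (t x) = j x := fun x => by rw [← Scheme.Hom.comp_apply, htq]
  have h : g' ≫ (c ≫ a) = (d ≫ γ.imageι ≫ pullback.snd a b) ≫ b := by
    rw [Category.assoc, Category.assoc, ← pullback.condition, ← Category.assoc, hcomm]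
    simp only [q, Category.assoc]
  refine ⟨𝓙, Xt, Pt, c, g', e', d ≫ γ.imageι ≫ pullback.snd a b, h, hc, ?_, hg', ?_, ?_, ?_⟩
  · convert hcd using 3
    exact (e1 _).symm
  · rw [hcomm, ← Category.assoc, he', htq]
  · rw [← Category.assoc, he']
    simp only [t, ← Category.assoc, Scheme.Hom.toImage_imageι]
    exact hγ2
  · let L := pullback.lift g' (d ≫ γ.imageι ≫ pullback.snd a b) h
    let m : pullback (c ≫ a) b ⟶ pullback a b :=
      pullback.lift (pullback.fst (c ≫ a) b ≫ c) (pullback.snd (c ≫ a) b) (by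
        rw [Category.assoc, pullback.condition])
    have hL1 : L ≫ pullback.fst (c ≫ a) b = g' := pullback.lift_fst _ _ _
    have hL2 : L ≫ pullback.snd (c ≫ a) b = d ≫ γ.imageι ≫ pullback.snd a b := pullback.lift_snd _ _ _
    have hm1 : m ≫ pullback.fst a b = pullback.fst (c ≫ a) b ≫ c := pullback.lift_fst _ _ _
    have hm2 : m ≫ pullback.snd a b = pullback.snd (c ≫ a) b := pullback.lift_snd _ _ _
    have hpb : IsPullback (pullback.fst (c ≫ a) b) m c (pullback.fst a b) := by
      refine IsPullback.of_bot (v₂₁ := pullback.snd a b) (v₂₂ := a) (h₃₁ := b) ?_ hm1.symm (.of_hasPullback a b)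
      rw [hm2]
      exact .of_hasPullback _ _
    have hcs : IsProper c := FT.isProper_of_isBlowUp hc
    have hms : IsSeparated m := MorphismProperty.of_isPullback (P := @IsSeparated) hpb inferInstance
    have hLm : L ≫ m = d ≫ γ.imageι := by
      apply pullback.hom_ext
      · rw [Category.assoc, hm1, ← Category.assoc, hL1, hcomm]
        simp only [q, Category.assoc]
      · rw [Category.assoc, hm2, hL2, Category.assoc]
    have hdp : IsProper d := FT.isProper_of_isBlowUp hd
    have h1 : IsProper (L ≫ m) := by rw [hLm]; infer_instance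
    have h2 : IsProper L := IsProper.of_comp L m
    have h3 : Mono g' := K947.Immersion.mono hg'
    have h4 : Mono L := by
      have : Mono (L ≫ pullback.fst (c ≫ a) b) := by rw [hL1]; exact h3
      exact mono_of_mono L (pullback.fst (c ≫ a) b)
    exact (IsClosedImmersion.iff_isProper_and_mono L).mpr ⟨h2, h4⟩

end K948.Graph
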