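import Groth.Agent.LocImm.K948.Lift209
import Groth.Agent.LocImm.K948.Dense

/-!
# Proper birational morphisms become isomorphisms after admissible blow-ups; extension of rational maps
-/

set_option autoImplicit false
universe u

open CategoryTheory AlgebraicGeometry Limits TopologicalSpace

namespace K948.Iso

open LocImm Groth.Agent.Flat2C Groth.Agent.Flat2C.StrictTr Groth.Agent.Flat2C.StrictTr2

theorem exists_iso {X Y Z : Scheme.{u}} [IsNoetherian X] [IsNoetherian Y] [IsNoetherian Z]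
    (f : X ⟶ Y) (g : Y ⟶ Z) [IsProper g]
    (hf : IsLocImmersion f) (hfg : IsLocImmersion (f ≫ g)) (hd : Dense (Set.range (fun x => g (f x)))) :
    ∃ (𝓘 : Y.IdealSheafData) (𝓙 : Z.IdealSheafData) (Yt Zt : Scheme.{u}) (b : Yt ⟶ Y) (c : Zt ⟶ Z)
      (g' : Yt ⟶ Zt),
      BlowUp.IsBlowUp b 𝓘 ∧ Disjoint (𝓘.support : Set Y) (Set.range (fun x => f x)) ∧
      BlowUp.IsBlowUp c 𝓙 ∧ Disjoint (𝓙.support : Set Z) (Set.range (fun x => g (f x))) ∧
      IsIso g' ∧ g' ≫ c = b ≫ g := by
  have := K948.EFT.essFiniteType_of_locallyOfFiniteType g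
  obtain ⟨𝓘, 𝓙, Yt, Zt, b, c, g', hb, hbd, hc, hcd, hg', hcomm⟩ := K948.Lift.exists_lift f g hf hfg
  refine ⟨𝓘, 𝓙, Yt, Zt, b, c, g', hb, hbd, hc, hcd, ?_, hcomm⟩
  have hbp : IsProper b := FT.isProper_of_isBlowUp hb
  have hcp : IsProper c := FT.isProper_of_isBlowUp hc
  have hNY : IsNoetherian Yt := FT.isNoetherian_of_isBlowUp hb
  have hNZ : IsNoetherian Zt := FT.isNoetherian_of_isBlowUp hc
  have h1 : IsProper (g' ≫ c) := by rw [hcomm]; infer_instance
  have h2 : IsProper g' := IsProper.of_comp g' c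
  have h3 : IsOpenImmersion g' := Groth.Agent.S18204.result g' hg'
  obtain ⟨f', hf'⟩ := Dn.exists_lift hb f hbd
  have h4 : Dense (Set.range (f' ≫ g')) := by
    apply Dn.dense_range_lift hc
    · rw [Category.assoc, hcomm, ← Category.assoc, hf']
      convert hd using 2
      ext x
      rw [Scheme.Hom.comp_apply]
    · intro t ht
      refine Set.disjoint_left.mp hcd ht ⟨t, ?_⟩
      change g (f t) = c ((f' ≫ g') t)
      rw [← Scheme.Hom.comp_apply (f' ≫ g') c, Category.assoc, hcomm, ← Category.assoc, hf',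
        Scheme.Hom.comp_apply]
  have h5 : Function.Surjective g' := by
    rw [← Set.range_eq_univ]
    have h6 : IsClosed (Set.range g') := g'.isClosedMap.isClosed_range
    rw [← h6.closure_eq]
    have h7 : Set.range (f' ≫ g') ⊆ Set.range g' := by
      rintro _ ⟨x, rfl⟩
      exact ⟨f' x, (Scheme.Hom.comp_apply f' g' x).symm⟩
    exact (h4.mono h7).closure_eq
  have h8 : Surjective g' := ⟨h5⟩
  have h9 : Epi g'.base := (TopCat.epi_iff_surjective _).mpr h5
  exact IsOpenImmersion.isIso g'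

/-- Extension of a rational map to a proper target after an admissible blow-up. -/
theorem exists_extension {S X Y Z : Scheme.{u}} [IsNoetherian X] [IsNoetherian Z]
    (a : X ⟶ S) (b : Y ⟶ S) [IsProper b]
    (j : Z ⟶ X) (hj : IsLocImmersion j) (hjd : Dense (Set.range (fun x => j x))) (f : Z ⟶ Y)
    (hjf : j ≫ a = f ≫ b) :
    ∃ (𝓘 : X.IdealSheafData) (Xt : Scheme.{u}) (c : Xt ⟶ X) (e : Z ⟶ Xt) (f' : Xt ⟶ Y),
      BlowUp.IsBlowUp c 𝓘 ∧ Disjoint (𝓘.support : Set X) (Set.range (fun x => j x)) ∧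
      e ≫ c = j ∧ e ≫ f' = f ∧ c ≫ a = f' ≫ b := by
  let γ : Z ⟶ pullback a b := pullback.lift j f hjf
  have hγ : QuasiCompact γ := inferInstance
  have hγ1 : γ ≫ pullback.fst a b = j := pullback.lift_fst _ _ _
  have hγ2 : γ ≫ pullback.snd a b = f := pullback.lift_snd _ _ _
  let t := γ.toImage
  let q := γ.imageι ≫ pullback.fst a b
  have htq : t ≫ q = j := by
    simp only [t, q, ← Category.assoc, Scheme.Hom.toImage_imageι]
    exact hγ1
  have hq : IsProper q := by dsimp only [q]; infer_instance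
  have hNP : IsLocallyNoetherian γ.image := LocallyOfFiniteType.isLocallyNoetherian q
  have hNP' : CompactSpace γ.image := QuasiCompact.compactSpace_of_compactSpace q
  have hNP'' : IsNoetherian γ.image := {}
  have ht : IsLocImmersion t := Dn.isLocImmersion_toImage γ (pullback.fst a b) (by rwa [hγ1])
  obtain ⟨𝓘, 𝓙, Pt, Xt, d, c, g', hd, hdd, hc, hcd, hiso, hcomm⟩ := exists_iso t q ht (by rwa [htq])
    (by
      convert hjd using 3
      rw [← Scheme.Hom.comp_apply, htq])
  obtain ⟨e', he'⟩ := Dn.exists_lift hd t hdd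
  have h0 : (e' ≫ g') ≫ c = j := by rw [Category.assoc, hcomm, ← Category.assoc, he', htq]
  have e1 : ∀ x, q (t x) = j x := fun x => by rw [← Scheme.Hom.comp_apply, htq]
  refine ⟨𝓙, Xt, c, e' ≫ g', inv g' ≫ d ≫ γ.imageι ≫ pullback.snd a b, hc, ?_, h0, ?_, ?_⟩
  · convert hcd using 3
    exact (e1 _).symm
  · rw [Category.assoc, IsIso.hom_inv_id_assoc, ← Category.assoc, he']
    simp only [t, ← Category.assoc, Scheme.Hom.toImage_imageι]
    exact hγ2
  · rw [Category.assoc, Category.assoc, Category.assoc, ← pullback.condition, ← cancel_epi g', IsIso.hom_inv_id_assoc,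
      ← Category.assoc, hcomm]
    simp only [q, Category.assoc]

end K948.Iso
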