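import Groth.Agent.S18191
import Groth.Agent.S18194
import Groth.Agent.S18204
import Groth.Agent.LocImm.K948.FT209
import Groth.Agent.LocImm.K948.EssFTBasic
import Groth.Agent.LocImm.K947.Immersion

/-!
# Lifting a morphism to a localizing immersion of admissible blow-ups
-/

set_option autoImplicit false
universe u

open CategoryTheory AlgebraicGeometry Limits TopologicalSpace

namespace K948.Lift

open LocImm Groth.Agent.Flat2C Groth.Agent.Flat2C.StrictTr Groth.Agent.Flat2C.StrictTr2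

theorem flat {X Y : Scheme.{u}} {f : X ⟶ Y} (hf : IsLocalizing f) : Flat f := by
  rw [Flat.iff_flat_stalkMap]
  intro x
  have := K947.Localizing.IsLocalizing.isIso_stalkMap hf x
  exact RingHom.Flat.of_bijective (ConcreteCategory.bijective_of_isIso (f.stalkMap x))

theorem isSeparated {X Y : Scheme.{u}} {f : X ⟶ Y} (hf : IsLocImmersion f) : IsSeparated f := by
  have := K947.Immersion.mono hf
  infer_instance

theorem exists_lift {X Y Z : Scheme.{u}} [IsNoetherian X] [IsNoetherian Y] [IsNoetherian Z]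
    (f : X ⟶ Y) (g : Y ⟶ Z) [IsSeparated g] [EssFT.EssFiniteType g]
    (hf : IsLocImmersion f) (hfg : IsLocImmersion (f ≫ g)) :
    ∃ (𝓘 : Y.IdealSheafData) (𝓙 : Z.IdealSheafData) (Yt Zt : Scheme.{u}) (b : Yt ⟶ Y) (c : Zt ⟶ Z)
      (g' : Yt ⟶ Zt),
      BlowUp.IsBlowUp b 𝓘 ∧ Disjoint (𝓘.support : Set Y) (Set.range (fun x => f x)) ∧
      BlowUp.IsBlowUp c 𝓙 ∧ Disjoint (𝓙.support : Set Z) (Set.range (fun x => g (f x))) ∧
      IsLocImmersion g' ∧ g' ≫ c = b ≫ g := by
  obtain ⟨Y', k, p, hY', hk, hps, hpf, hpq, hkp⟩ := Groth.Agent.S18191.result g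
  have hfk : IsLocImmersion (f ≫ k) := K947.Immersion.IsLocImmersion.comp hf hk
  have := isSeparated hfk
  have := isSeparated hfg
  have := K948.EFT.essFiniteType_of_locallyOfFiniteType p
  obtain ⟨W, hW, hWp⟩ := Groth.Agent.S18194.result (f ≫ k) (f ≫ g) p hfk hfg (by rw [Category.assoc, hkp])
  have : IsNoetherian (W : Scheme.{u}) :=
    have : CompactSpace W := isCompact_iff_compactSpace.mp (FT.isCompact_opens W)
    {}
  have hWo : IsOpenImmersion (W.ι ≫ p) := Groth.Agent.S18204.result _ hWp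
  obtain ⟨𝓘, 𝓙, Yt', Zt, b', c, g'', hb', hadm, hc, hcadm, hg'', hcomm⟩ :=
    FT.exists_blowUps_openImmersion p W
  have hkf : Flat k := flat hk.1
  refine ⟨𝓘.comap k, 𝓙, pullback k b', Zt, pullback.fst k b', c, pullback.snd k b' ≫ g'',
    isBlowUp_fst_of_flat hb' (IsPullback.of_hasPullback k b'), ?_, hc, ?_, ?_, ?_⟩
  · rw [Set.disjoint_left]
    rintro _ hx ⟨x, rfl⟩
    rw [Scheme.IdealSheafData.support_comap] at hx
    refine Set.disjoint_left.mp hadm.2 hx (hW ⟨x, ?_⟩)
    exact Scheme.Hom.comp_apply f k x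
  · rw [Set.disjoint_left]
    rintro _ hx ⟨x, rfl⟩
    refine Set.disjoint_left.mp hcadm.2 hx ?_
    have h1 : (f ≫ k) x ∈ W := hW ⟨x, rfl⟩
    refine ⟨⟨(f ≫ k) x, h1⟩, ?_⟩
    change (W.ι ≫ p) (⟨(f ≫ k) x, h1⟩ : (W : Scheme.{u})) = g (f x)
    rw [Scheme.Hom.comp_apply, ← Scheme.Hom.comp_apply f g, ← hkp, ← Category.assoc, Scheme.Hom.comp_apply _ p]
    rfl
  · exact K947.Immersion.IsLocImmersion.comp (K947.Immersion.isLocImmersion_pullback_snd b' hk)
      (K947.Immersion.isLocImmersion_of_isOpenImmersion g'')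
  · rw [Category.assoc, hcomm, ← Category.assoc, ← pullback.condition, Category.assoc, hkp]

end K948.Lift
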