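import Groth.Agent.LocImm.K948.Common210
import Groth.Agent.LocImm.K948.Iso214

/-!
# Admissible blow-ups of several schemes essentially of finite type localize a common one
-/

set_option autoImplicit false
universe u

open CategoryTheory AlgebraicGeometry Limits TopologicalSpace

namespace K948.Common

open LocImm Groth.Agent.Flat2C K948.Adm

theorem prep {S U Y : Scheme.{u}} [IsNoetherian S] [IsNoetherian U] [IsNoetherian Y] (q : Y ⟶ S)
    [IsSeparated q] [EssFT.EssFiniteType q] (f : U ⟶ Y) (hf : IsLocImmersion f) :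
    ∃ (Y' : Scheme.{u}) (c : Y' ⟶ Y) (f' : U ⟶ Y') (W : Scheme.{u}) (t : Y' ⟶ W) (p : W ⟶ S),
      IsAdm f c f' ∧ IsLocImmersion t ∧ IsSeparated p ∧ LocallyOfFiniteType p ∧ QuasiCompact p ∧
      t ≫ p = c ≫ q ∧ Dense (Set.range (f' ≫ t)) := by
  obtain ⟨Y', c, f', hadm, hd⟩ := exists_isAdm_dense f hf
  have hcp : IsProper c := hadm.isProper
  have hN : IsNoetherian Y' := hadm.isNoetherian
  have hce := K948.EFT.essFiniteType_of_locallyOfFiniteType c
  obtain ⟨W, k, p, hW, hk, hps, hpf, hpq, hkp⟩ := Groth.Agent.S18191.result (c ≫ q)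
  refine ⟨Y', c, f', k.image, k.toImage, k.imageι ≫ p, hadm, Dn.isLocImmersion_toImage k (𝟙 W) (by simpa using hk),
    inferInstance, inferInstance, inferInstance, ?_, ?_⟩
  · rw [← Category.assoc, Scheme.Hom.toImage_imageι, hkp]
  · have h1 : DenseRange k.toImage := k.toImage.denseRange
    have h2 : DenseRange (k.toImage ∘ f') := h1.comp hd k.toImage.continuous
    rw [Scheme.Hom.comp_base, TopCat.coe_comp]
    exact h2

theorem main {S U : Scheme.{u}} [IsNoetherian S] [IsNoetherian U] {n : ℕ}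
    (gU : U ⟶ S) (Y : Fin n → Scheme.{u}) [∀ i, IsNoetherian (Y i)] (q : ∀ i, Y i ⟶ S)
    [∀ i, IsSeparated (q i)] [∀ i, EssFT.EssFiniteType (q i)]
    (f : ∀ i, U ⟶ Y i) (hf : ∀ i, LocImm.IsLocImmersion (f i)) (hfq : ∀ i, f i ≫ q i = gU) :
    ∃ (Z : Scheme.{u}) (r : Z ⟶ S) (_ : IsSeparated r) (_ : LocallyOfFiniteType r) (_ : QuasiCompact r)
      (𝓘 : ∀ i, (Y i).IdealSheafData) (Yt : Fin n → Scheme.{u}) (b : ∀ i, Yt i ⟶ Y i) (u : ∀ i, U ⟶ Yt i) (g : ∀ i, Yt i ⟶ Z),
      (∀ i, BlowUp.IsBlowUp (b i) (𝓘 i) ∧ Disjoint ((𝓘 i).support : Set (Y i)) (Set.range (fun x => f i x)) ∧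
        u i ≫ b i = f i ∧ LocImm.IsLocImmersion (g i) ∧ Dense (Set.range (fun x => g i x)) ∧ g i ≫ r = b i ≫ q i) ∧
      (∀ i i', u i ≫ g i = u i' ≫ g i') := by
  cases n with
  | zero =>
    exact ⟨S, 𝟙 S, inferInstance, inferInstance, inferInstance, fun i => i.elim0, fun i => i.elim0,
      fun i => i.elim0, fun i => i.elim0, fun i => i.elim0, fun i => i.elim0, fun i => i.elim0⟩
  | succ n =>
    choose Y' c f' W t p hadm ht hp1 hp2 hp3 htp hd using fun i => prep (q i) (f i) (hf i)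
    have hlf' : ∀ i, IsLocImmersion (f' i ≫ t i) := fun i =>
      K947.Immersion.IsLocImmersion.comp ((hadm i).isLocImmersion (hf i)) (ht i)
    obtain ⟨Z, r, hr1, hr2, hr3, v, hv, hvd, hvr, H⟩ := exists_common gU n W p hp1 hp2 hp3 (fun i => f' i ≫ t i) hlf' hd
      (fun i => by rw [Category.assoc, htp, ← Category.assoc, (hadm i).fac, hfq])
    choose Wt b w o hadm' ho hwo hor using H
    have htf : ∀ i, Flat (t i) := fun i => K948.Lift.flat (ht i).1
    have hA : ∀ i, IsAdm (f i) (pullback.fst (t i) (b i) ≫ c i)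
        (pullback.lift (f' i) (w i) (by rw [(hadm' i).fac])) := fun i =>
      (hadm i).comp ((hadm' i).baseChange (t i) (f' i) rfl)
    choose 𝓘 h1 h2 h3 using hA
    have hcomp : ∀ i, pullback.lift (f' i) (w i) (by rw [(hadm' i).fac]) ≫ pullback.snd (t i) (b i) ≫ o i = v :=
      fun i => by rw [← Category.assoc, pullback.lift_snd, hwo]
    refine ⟨Z, r, hr1, hr2, hr3, 𝓘, fun i => pullback (t i) (b i), fun i => pullback.fst (t i) (b i) ≫ c i,
      fun i => pullback.lift (f' i) (w i) (by rw [(hadm' i).fac]), fun i => pullback.snd (t i) (b i) ≫ o i, ?_, ?_⟩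
    · intro i
      have := ho i
      refine ⟨h1 i, h2 i, h3 i, ?_, ?_, ?_⟩
      · exact K947.Immersion.IsLocImmersion.comp (K947.Immersion.isLocImmersion_pullback_snd (b i) (ht i))
          (K947.Immersion.isLocImmersion_of_isOpenImmersion (o i))
      · refine hvd.mono ?_
        rintro _ ⟨x, rfl⟩
        refine ⟨pullback.lift (f' i) (w i) (by rw [(hadm' i).fac]) x, ?_⟩
        change (pullback.snd (t i) (b i) ≫ o i) _ = v x
        rw [← Scheme.Hom.comp_apply, hcomp]
      · rw [Category.assoc, hor, ← Category.assoc, ← pullback.condition, Category.assoc, htp, Category.assoc]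
    · intro i i'
      rw [hcomp, hcomp]

end K948.Common
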