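import Groth.Agent.S8910
import Groth.Agent.S9708
import Groth.Agent.S4418
import Groth.Agent.LocImm.K948.Adm
import Groth.Agent.LocImm.K948.Iso214

/-!
# Chow's lemma for morphisms essentially of finite type
-/

set_option autoImplicit false
universe u

open CategoryTheory AlgebraicGeometry Limits TopologicalSpace

namespace K948.QProj

open LocImm Groth.Agent.Flat2C K948.Adm

/-- Cancellation for morphisms essentially of finite type. -/
theorem essFiniteType_of_comp {X Y Z : Scheme.{u}} (f : X ⟶ Y) (g : Y ⟶ Z) [IsSeparated g]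
    [EssFT.EssFiniteType (f ≫ g)] : EssFT.EssFiniteType f := by
  let γ : X ⟶ pullback (f ≫ g) g := pullback.lift (𝟙 X) f (by simp)
  have h1 : γ ≫ pullback.fst (f ≫ g) g = 𝟙 X := pullback.lift_fst _ _ _
  have h2 : γ ≫ pullback.snd (f ≫ g) g = f := pullback.lift_snd _ _ _
  have h3 : IsClosedImmersion (γ ≫ pullback.fst (f ≫ g) g) := by rw [h1]; infer_instance
  have h4 : IsClosedImmersion γ := IsClosedImmersion.of_comp γ (pullback.fst (f ≫ g) g)
  have h5 : EssFT.EssFiniteType γ := K948.EFT.essFiniteType_of_locallyOfFiniteType γ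
  rw [← h2]
  infer_instance

theorem main {U Y S P : Scheme.{u}} [IsNoetherian U] [IsNoetherian Y] [IsNoetherian S] [IsNoetherian P]
    (π : Y ⟶ S) [IsSeparated π] [EssFT.EssFiniteType π] (f : U ⟶ Y) (hf : LocImm.IsLocImmersion f)
    (hfd : Dense (Set.range (fun x => f x))) (j : U ⟶ P) (p : P ⟶ S) (hj : LocImm.IsLocImmersion j)
    (hp : RelProj.IsProjective p) (hc : j ≫ p = f ≫ π) :
    ∃ (𝓘 : Y.IdealSheafData) (Yt P' : Scheme.{u}) (b : Yt ⟶ Y) (j' : Yt ⟶ P') (p' : P' ⟶ S),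
      BlowUp.IsBlowUp b 𝓘 ∧ Disjoint (𝓘.support : Set Y) (Set.range (fun x => f x)) ∧
      LocImm.IsLocImmersion j' ∧ RelProj.IsProjective p' ∧ j' ≫ p' = b ≫ π := by
  have hpp : IsProper p := (Groth.Agent.S4418.result p hp).2
  obtain ⟨𝓘₁, Y₁, c, e₁, f₁, hc1, hd1, he1, hef, hcf⟩ := K948.Iso.exists_extension π p f hf hfd j hc.symm
  have hadm1 : IsAdm f c e₁ := ⟨𝓘₁, hc1, hd1, he1⟩
  have hcp : IsProper c := hadm1.isProper
  have hN1 : IsNoetherian Y₁ := hadm1.isNoetherian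
  have hce := K948.EFT.essFiniteType_of_locallyOfFiniteType c
  have h1 : IsSeparated (f₁ ≫ p) := by rw [← hcf]; infer_instance
  have h2 : EssFT.EssFiniteType (f₁ ≫ p) := by rw [← hcf]; infer_instance
  have h3 : IsSeparated f₁ := IsSeparated.of_comp f₁ p
  have h4 : EssFT.EssFiniteType f₁ := essFiniteType_of_comp f₁ p
  obtain ⟨𝓘₂, 𝓙, Y₂, P₂, b₂, c₂, g', hb2, hbd2, hc2, hcd2, hg', hcomm⟩ :=
    K948.Lift.exists_lift e₁ f₁ (hadm1.isLocImmersion hf) (by rwa [hef])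
  obtain ⟨e₂, he2⟩ := Dn.exists_lift hb2 e₁ hbd2
  have hadm2 : IsAdm e₁ b₂ e₂ := ⟨𝓘₂, hb2, hbd2, he2⟩
  obtain ⟨𝓘, hI, hdis, -⟩ := hadm1.comp hadm2
  refine ⟨𝓘, Y₂, P₂, b₂ ≫ c, g', c₂ ≫ p, hI, hdis, hg', ?_, ?_⟩
  · exact Groth.Agent.S9708.result c₂ p (Groth.Agent.S8910.result 𝓙 (FT.isFT_of_noetherian _) c₂ hc2) hp
  · rw [← Category.assoc, hcomm, Category.assoc, ← hcf, Category.assoc]

end K948.QProj
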